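import Mathlib
import Cfsg.Agent.Helper71.BSW.Defs

/-!
# S3282 (helper71), piece (B5): `|C(y)| = d` for the `d`-elements `y`, and `C(y)` is inverted by an
involution
-/

set_option autoImplicit false

namespace Cfsg.Agent.Helper67.BSW

open Cfsg.Agent.Helper71.BSW

/-- an involution `a` with `a * b = y`, `b` an involution, inverts `y` -/
theorem B5_inverts {G : Type*} [Group G] {a b y : G} (ha : orderOf a = 2) (hb : orderOf b = 2)
    (hab : a * b = y) : a * y * a⁻¹ = y⁻¹ := by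
  have ha2 : a * a = 1 := by rw [← pow_two, ← ha, pow_orderOf_eq_one]
  have hb2 : b * b = 1 := by rw [← pow_two, ← hb, pow_orderOf_eq_one]
  have hai : a⁻¹ = a := inv_eq_of_mul_eq_one_right ha2
  have hbi : b⁻¹ = b := inv_eq_of_mul_eq_one_right hb2
  rw [← hab, mul_inv_rev, hai, hbi, ← mul_assoc, ha2, one_mul]

theorem b_card_cent_D {G : Type*} [Group G] [Finite G] {t s : G} {K : Subgroup G} {q d : ℕ}
    (c : Ctx t s K q d) (A1 : FactsA1 t s K)
    (h_arith : Odd q ∧ Odd d ∧ q.Coprime (2 * Nat.card K) ∧ d.Coprime (2 * Nat.card K) ∧ q.Coprime d ∧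
      q ^ 2 = 4 * Nat.card K * d + 1 ∧ 3 ≤ d ∧ 7 ≤ q)
    :
    ∀ y : G, y ≠ 1 → (orderOf y).Coprime (2 * Nat.card K * q) →
    Nat.card (Subgroup.centralizer ({y} : Set G)) = d ∧
      ∃ u : G, orderOf u = 2 ∧ ∀ v ∈ Subgroup.centralizer ({y} : Set G), u * v * u⁻¹ = v⁻¹ := by
  intro y hy hyc
  classical
  obtain ⟨-, -, -, -, -, -, hd3, -⟩ := h_arith
  have ho1 : orderOf y ≠ 1 := by
    intro h
    exact hy (orderOf_eq_one_iff.1 h)
  obtain ⟨r, hr, hry⟩ := Nat.exists_prime_and_dvd ho1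
  have hoG : orderOf y ∣ 2 * Nat.card K * q * d := by
    rw [← c.card]
    exact orderOf_dvd_natCard y
  have hod : orderOf y ∣ d := hyc.dvd_of_dvd_mul_left hoG
  have hrd : r ∣ d := hry.trans hod
  have hyc2 : (orderOf y).Coprime (2 * Nat.card K) := Nat.Coprime.coprime_mul_right_right hyc
  -- (i) `|C(y)|` is prime to `2kq`
  have hcop : (Nat.card (Subgroup.centralizer ({y} : Set G))).Coprime (2 * Nat.card K * q) := by
    apply Nat.coprime_of_dvd
    intro ℓ hℓ hℓC hℓ2
    have : Fact ℓ.Prime := ⟨hℓ⟩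
    obtain ⟨g, hg⟩ := exists_prime_orderOf_dvd_card' ℓ hℓC
    have hgo : orderOf (g : G) = ℓ := by
      rw [Subgroup.orderOf_coe]
      exact hg
    have hgy : Commute (g : G) y := Subgroup.mem_centralizer_singleton_iff.1 g.2
    have hg1 : (g : G) ≠ 1 := by
      intro h
      rw [h, orderOf_one] at hgo
      exact hℓ.one_lt.ne hgo
    rcases (Nat.Prime.dvd_mul hℓ).1 hℓ2 with h2k | hq
    · have hnc : ¬ (orderOf (g : G)).Coprime (2 * Nat.card K) := by
        rw [hgo]
        intro hc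
        exact hℓ.one_lt.ne' (Nat.Coprime.eq_one_of_dvd hc h2k)
      have hconj := A1.conj_into_K (g : G) hnc
      have := A1.orderOf_dvd_of_commute (g : G) y hg1 hconj hgy.symm
      exact ho1 (Nat.Coprime.eq_one_of_dvd hyc2 this)
    · have hcopo : (orderOf y).Coprime (orderOf (g : G)) := by
        rw [hgo]
        exact Nat.Coprime.coprime_dvd_right (hq.trans (Dvd.intro_left _ rfl)) hyc
      have hord : orderOf (y * (g : G)) = orderOf y * orderOf (g : G) :=
        hgy.symm.orderOf_mul_eq_mul_orderOf_of_coprime hcopo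
      exact c.nopr (y * (g : G)) ℓ r hℓ hr hq hrd (by rw [hord, hgo]; exact dvd_mul_left _ _)
        (by rw [hord]; exact hry.mul_right _)
  have hCd : Nat.card (Subgroup.centralizer ({y} : Set G)) ∣ d := by
    apply hcop.dvd_of_dvd_mul_left
    rw [← c.card]
    exact Subgroup.card_subgroup_dvd_card _
  -- (ii) the pairs of involutions with product `y`
  have hpairs : Nat.card {p : G × G // orderOf p.1 = 2 ∧ orderOf p.2 = 2 ∧ p.1 * p.2 = y} = d :=
    c.invD y hy hyc
  have hne : Nonempty {p : G × G // orderOf p.1 = 2 ∧ orderOf p.2 = 2 ∧ p.1 * p.2 = y} := by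
    have : 0 < Nat.card {p : G × G // orderOf p.1 = 2 ∧ orderOf p.2 = 2 ∧ p.1 * p.2 = y} := by
      rw [hpairs]; omega
    exact (Nat.card_pos_iff.1 this).1
  obtain ⟨⟨⟨u, b0⟩, hu, hb0, hub0⟩⟩ := hne
  simp only at hu hb0 hub0
  have huy : u * y * u⁻¹ = y⁻¹ := B5_inverts hu hb0 hub0
  have hu2 : u * u = 1 := by rw [← pow_two, ← hu, pow_orderOf_eq_one]
  have hui : u⁻¹ = u := inv_eq_of_mul_eq_one_right hu2
  -- the injection `p ↦ u * p.1`
  have hmem : ∀ p : {p : G × G // orderOf p.1 = 2 ∧ orderOf p.2 = 2 ∧ p.1 * p.2 = y},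
      u * p.1.1 ∈ Subgroup.centralizer ({y} : Set G) := by
    intro p
    have hay : p.1.1 * y * (p.1.1)⁻¹ = y⁻¹ := B5_inverts p.2.1 p.2.2.1 p.2.2.2
    rw [Subgroup.mem_centralizer_singleton_iff]
    have h1 : p.1.1 * y = y⁻¹ * p.1.1 := by
      rw [← hay]; group
    have h2 : u * y⁻¹ = y * u := by
      have h := congrArg (fun z => z⁻¹) huy
      simp only [mul_inv_rev, inv_inv] at h
      calc u * y⁻¹ = (u * (y⁻¹ * u⁻¹)) * u := by group
        _ = y * u := by rw [h]
    rw [mul_assoc, h1, ← mul_assoc, h2, mul_assoc]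
  let φ : {p : G × G // orderOf p.1 = 2 ∧ orderOf p.2 = 2 ∧ p.1 * p.2 = y} →
      ↥(Subgroup.centralizer ({y} : Set G)) := fun p => ⟨u * p.1.1, hmem p⟩
  have hφ : Function.Injective φ := by
    intro p p' hpp
    have h1 : u * p.1.1 = u * p'.1.1 := congrArg Subtype.val hpp
    have h2 : p.1.1 = p'.1.1 := mul_left_cancel h1
    have h3 : p.1.2 = p'.1.2 := by
      apply mul_left_cancel (a := p.1.1)
      rw [p.2.2.2, h2, p'.2.2.2]
    exact Subtype.ext (Prod.ext h2 h3)
  have hle : d ≤ Nat.card (Subgroup.centralizer ({y} : Set G)) := by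
    rw [← hpairs]
    exact Nat.card_le_card_of_injective φ hφ
  have hd0 : 0 < d := by omega
  have hCle : Nat.card (Subgroup.centralizer ({y} : Set G)) ≤ d := Nat.le_of_dvd hd0 hCd
  have hCeq : Nat.card (Subgroup.centralizer ({y} : Set G)) = d := le_antisymm hCle hle
  have hbij : Function.Bijective φ := hφ.bijective_of_nat_card_le (by rw [hpairs, hCeq])
  refine ⟨hCeq, u, hu, ?_⟩
  intro v hv
  obtain ⟨p, hp⟩ := hbij.2 ⟨v, hv⟩
  have hv' : u * p.1.1 = v := congrArg Subtype.val hp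
  have ha2 : p.1.1 * p.1.1 = 1 := by
    have h := pow_orderOf_eq_one p.1.1
    rw [p.2.1, pow_two] at h
    exact h
  have hai : (p.1.1)⁻¹ = p.1.1 := inv_eq_of_mul_eq_one_right ha2
  rw [← hv', mul_inv_rev, hai, hui, ← mul_assoc, hu2, one_mul]

end Cfsg.Agent.Helper67.BSW
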