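import Mathlib
import Cfsg.Agent.Helper71.BSW.Defs

/-!
# S3282 (helper71), piece (B7): the subgroups `C(y)` (`y` a `d`-element) are all conjugate
-/

set_option autoImplicit false

namespace Cfsg.Agent.Helper67.BSW

open Cfsg.Agent.Helper71.BSW

/-- conjugating a centralizer -/
theorem B7_map_conj_centralizer {G : Type*} [Group G] (g v : G) :
    (Subgroup.centralizer ({v} : Set G)).map (MulAut.conj g).toMonoidHom =
      Subgroup.centralizer ({g * v * g⁻¹} : Set G) := by
  ext w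
  rw [Subgroup.mem_map_equiv, MulAut.conj_symm_apply, Subgroup.mem_centralizer_singleton_iff,
    Subgroup.mem_centralizer_singleton_iff]
  constructor
  · intro h
    have h2 := congrArg (fun z => g * z * g⁻¹) h
    calc w * (g * v * g⁻¹) = g * (g⁻¹ * w * g * v) * g⁻¹ := by group
      _ = g * (v * (g⁻¹ * w * g)) * g⁻¹ := h2
      _ = g * v * g⁻¹ * w := by group
  · intro h
    have h2 := congrArg (fun z => g⁻¹ * z * g) h
    calc g⁻¹ * w * g * v = g⁻¹ * (w * (g * v * g⁻¹)) * g := by group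
      _ = g⁻¹ * (g * v * g⁻¹ * w) * g := h2
      _ = v * (g⁻¹ * w * g) := by group

theorem b_cent_D_conj {G : Type*} [Group G] [Finite G] {t s : G} {K : Subgroup G} {q d : ℕ}
    (c : Ctx t s K q d)
    (h_arith : Odd q ∧ Odd d ∧ q.Coprime (2 * Nat.card K) ∧ d.Coprime (2 * Nat.card K) ∧ q.Coprime d ∧
      q ^ 2 = 4 * Nat.card K * d + 1 ∧ 3 ≤ d ∧ 7 ≤ q)
    (h_card_cent_D : ∀ y : G, y ≠ 1 → (orderOf y).Coprime (2 * Nat.card K * q) →
    Nat.card (Subgroup.centralizer ({y} : Set G)) = d ∧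
      ∃ u : G, orderOf u = 2 ∧ ∀ v ∈ Subgroup.centralizer ({y} : Set G), u * v * u⁻¹ = v⁻¹)
    (h_cent_D_eq : ∀ y v : G, y ≠ 1 → (orderOf y).Coprime (2 * Nat.card K * q) →
    v ∈ Subgroup.centralizer ({y} : Set G) → v ≠ 1 →
    (orderOf v).Coprime (2 * Nat.card K * q) ∧
      Subgroup.centralizer ({v} : Set G) = Subgroup.centralizer ({y} : Set G))
    :
    ∀ y y' : G, y ≠ 1 → (orderOf y).Coprime (2 * Nat.card K * q) → y' ≠ 1 →
    (orderOf y').Coprime (2 * Nat.card K * q) →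
    ∃ g : G, (Subgroup.centralizer ({y} : Set G)).map (MulAut.conj g).toMonoidHom =
      Subgroup.centralizer ({y'} : Set G) := by
  intro y y' hy hyc hy' hyc'
  classical
  have hcardG : Nat.card G = 2 * Nat.card K * q * d := c.card
  -- a prime `r` dividing the order of `y`
  have ho1 : orderOf y ≠ 1 := by
    intro h
    exact hy (orderOf_eq_one_iff.1 h)
  obtain ⟨r, hr, hry⟩ := Nat.exists_prime_and_dvd ho1
  have : Fact r.Prime := ⟨hr⟩
  have hrG : r ∣ Nat.card G := hry.trans (orderOf_dvd_natCard y)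
  have hrcop : r.Coprime (2 * Nat.card K * q) := Nat.Coprime.coprime_dvd_left hry hyc
  have hrn_d : r ^ (Nat.card G).factorization r ∣ d := by
    have h1 : r ^ (Nat.card G).factorization r ∣ 2 * Nat.card K * q * d := by
      rw [← hcardG]
      exact Nat.ordProj_dvd (Nat.card G) r
    exact (Nat.Coprime.pow_left _ hrcop).dvd_of_dvd_mul_left h1
  -- every `C(y0)` contains a Sylow `r`-subgroup of `G`
  have key : ∀ y0 : G, y0 ≠ 1 → (orderOf y0).Coprime (2 * Nat.card K * q) →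
      ∃ P : Sylow r G, (P : Subgroup G) ≤ Subgroup.centralizer ({y0} : Set G) := by
    intro y0 h0 h0c
    have hcD := (h_card_cent_D y0 h0 h0c).1
    obtain ⟨K0, hK0⟩ := Sylow.exists_subgroup_card_pow_prime r
      (G := ↥(Subgroup.centralizer ({y0} : Set G))) (n := (Nat.card G).factorization r)
      (by rw [hcD]; exact hrn_d)
    refine ⟨Sylow.ofCard (K0.map (Subgroup.subtype _)) ?_, ?_⟩
    · rw [Subgroup.card_map_of_injective (Subgroup.subtype_injective _), hK0]
    · rw [Sylow.coe_ofCard]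
      exact Subgroup.map_subtype_le K0
  obtain ⟨P, hP⟩ := key y hy hyc
  obtain ⟨P', hP'⟩ := key y' hy' hyc'
  obtain ⟨g, hg⟩ := MulAction.exists_smul_eq G P P'
  -- a nontrivial element of `P`
  have hPne : (P : Subgroup G) ≠ ⊥ := P.ne_bot_of_dvd_card hrG
  obtain ⟨⟨v, hvP⟩, hv1'⟩ := (Subgroup.ne_bot_iff_exists_ne_one).1 hPne
  have hv1 : v ≠ 1 := fun h => hv1' (Subtype.ext h)
  refine ⟨g, ?_⟩
  obtain ⟨-, hCv⟩ := h_cent_D_eq y v hy hyc (hP hvP) hv1
  have hgv : g * v * g⁻¹ ∈ (P' : Subgroup G) := by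
    rw [← hg, Sylow.coe_subgroup_smul, Subgroup.mem_pointwise_smul_iff_inv_smul_mem]
    simp only [MulAut.smul_def, MulAut.inv_apply, MulAut.conj_symm_apply]
    have : g⁻¹ * (g * v * g⁻¹) * g = v := by group
    rw [this]
    exact hvP
  have hgv1 : g * v * g⁻¹ ≠ 1 := by
    intro h
    apply hv1
    have : v = g⁻¹ * (g * v * g⁻¹) * g := by group
    rw [this, h]
    group
  obtain ⟨-, hCv'⟩ := h_cent_D_eq y' (g * v * g⁻¹) hy' hyc' (hP' hgv) hgv1
  rw [← hCv, ← hCv']
  exact B7_map_conj_centralizer g v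

end Cfsg.Agent.Helper67.BSW
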